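import Mathlib
import Cfsg.Prelude.Def_Spor_J1
import Cfsg.Agent.ClassificationK.WalterIso
import Cfsg.Agent.SmallSimple.OrderEight
import Cfsg.Agent.SmallSimple.PSLTwoPart
import Cfsg.Agent.S0201

/-!
# The simple groups of order 175560, from the classification of simple groups with Sylow 2-subgroups of order 8
-/

set_option autoImplicit false

namespace Cfsg.Agent.H555.JOneOrder

open Cfsg Cfsg.Agent.Walter.Types Cfsg.Agent.Walter.Main

universe u

/-- A group of order 175560 of Janko–Ree type is `J₁`. -/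
theorem isoJ1_of_isJR (hC : CentThm.{u}) {G : Type u} [Group G] [Finite G] [IsSimpleGroup G]
    (hcard : Nat.card G = 175560) (h : IsJR G) : Cfsg.Spor.IsoJ1 G := by
  have h2 : Fact (Nat.Prime 2) := ⟨Nat.prime_two⟩
  obtain ⟨S⟩ : Nonempty (Sylow 2 G) := inferInstance
  obtain ⟨⟨S₀, hS₀, hS₀2⟩, F, i1, i2, hmod, hq, hc⟩ := h
  have hsyl : ∀ P : Sylow 2 G, Nat.card P = 8 ∧ ∀ x ∈ P, x * x = 1 := by
    intro P
    let e := P.equiv S₀
    refine ⟨by rw [Nat.card_congr e.toEquiv]; exact hS₀, fun x hx => ?_⟩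
    have h3 := hS₀2 _ (e ⟨x, hx⟩).2
    have h4 : e ⟨x, hx⟩ * e ⟨x, hx⟩ = 1 := Subtype.ext h3
    rw [← map_mul, ← map_one e] at h4
    exact congrArg Subtype.val (e.injective h4)
  have hab : ∀ P : Sylow 2 G, ∀ a b : P, a * b = b * a := by
    intro P a b
    have h3 := (hsyl P).2 _ (mul_mem a.2 b.2)
    have ha := (hsyl P).2 _ a.2
    have hb := (hsyl P).2 _ b.2
    apply Subtype.ext
    calc (a : G) * b = ((a : G) * b)⁻¹ := (inv_eq_of_mul_eq_one_right h3).symm
      _ = (b : G)⁻¹ * (a : G)⁻¹ := mul_inv_rev _ _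
      _ = b * a := by rw [inv_eq_of_mul_eq_one_right ha, inv_eq_of_mul_eq_one_right hb]
  obtain ⟨t, ht⟩ : ∃ t : G, orderOf t = 2 := by
    apply exists_prime_orderOf_dvd_card'
    rw [hcard]
    norm_num
  rcases hC G hab F (by omega) t ht (hc t ht) with ⟨m, hm, hF, hcard'⟩ | ⟨hF, -⟩
  · exfalso
    rw [hcard] at hcard'
    have h27 : 27 ∣ 175560 := by
      have h3 : 3 ^ 3 ∣ (3 ^ (2 * m + 1)) ^ 3 := pow_dvd_pow_of_dvd (dvd_pow_self 3 (by omega)) 3
      rw [hcard', mul_assoc]
      exact Dvd.dvd.mul_right h3 _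
    revert h27
    norm_num
  · have hF5 : Fintype.card F = 5 := by omega
    obtain ⟨e⟩ := hc t ht
    obtain ⟨f⟩ : Nonempty (Matrix.ProjectiveSpecialLinearGroup (Fin 2) F ≃* alternatingGroup (Fin 5)) := by
      apply Cfsg.Agent.Walter.TypeSylow.equiv_alternating
      · rw [hF5]
        exact Dvd.intro _ rfl
      · have h := Cfsg.Agent.ClassicalGeometry.PSL2Basic.card_PSL2_odd F (by rw [hF5]; decide)
        rw [hF5] at h
        omega
    exact Cfsg.Agent.S1644.result S ⟨⟨hab S⟩⟩ (hsyl S).1 t ht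
      (e.trans (MulEquiv.prodCongr (MulEquiv.refl _) f))

/-- `PSL(2, F)`, `|F|` odd, has not order 175560. -/
theorem psl_odd_ne {F : Type*} [Field F] [Fintype F] (h : Odd (Fintype.card F)) :
    Nat.card (Matrix.ProjectiveSpecialLinearGroup (Fin 2) F) ≠ 175560 := by
  intro hN
  have h1 := SmallSimple.PSLTwoPart.card_psl_two_odd h
  rw [hN] at h1
  set q := Fintype.card F with hq
  rcases Nat.lt_or_ge q 71 with h2 | h2
  · have h3 : q ≤ 70 := by omega
    have h4 : q ^ 2 - 1 ≤ 70 ^ 2 - 1 := Nat.sub_le_sub_right (Nat.pow_le_pow_left h3 2) 1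
    have h5 : q * (q ^ 2 - 1) ≤ 70 * (70 ^ 2 - 1) := Nat.mul_le_mul h3 h4
    norm_num at h5
    omega
  · have h4 : 71 ^ 2 - 1 ≤ q ^ 2 - 1 := Nat.sub_le_sub_right (Nat.pow_le_pow_left h2 2) 1
    have h5 : 71 * (71 ^ 2 - 1) ≤ q * (q ^ 2 - 1) := Nat.mul_le_mul h2 h4
    norm_num at h5
    omega

/-- `PSL(2, 2^n)` has not order 175560. -/
theorem psl_even_ne {F : Type*} [Field F] [Fintype F] {n : ℕ} (hF : Fintype.card F = 2 ^ n) (hn : 2 ≤ n) :
    Nat.card (Matrix.ProjectiveSpecialLinearGroup (Fin 2) F) ≠ 175560 := by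
  intro hN
  have hev : Even (Fintype.card F) := by
    rw [hF]
    exact (even_two).pow_of_ne_zero (by omega)
  have h1 := SmallSimple.PSLTwoPart.card_psl_two_even hev
  rw [hN, hF] at h1
  rcases Nat.lt_or_ge n 6 with h2 | h2
  · have h3 : 2 ^ n ≤ 2 ^ 5 := Nat.pow_le_pow_right (by norm_num) (by omega)
    have h4 : (2 ^ n) ^ 2 - 1 ≤ (2 ^ 5) ^ 2 - 1 := Nat.sub_le_sub_right (Nat.pow_le_pow_left h3 2) 1
    have h5 : 2 ^ n * ((2 ^ n) ^ 2 - 1) ≤ 2 ^ 5 * ((2 ^ 5) ^ 2 - 1) := Nat.mul_le_mul h3 h4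
    norm_num at h5
    omega
  · have h3 : 2 ^ 6 ≤ 2 ^ n := Nat.pow_le_pow_right (by norm_num) h2
    have h4 : (2 ^ 6) ^ 2 - 1 ≤ (2 ^ n) ^ 2 - 1 := Nat.sub_le_sub_right (Nat.pow_le_pow_left h3 2) 1
    have h5 : 2 ^ 6 * ((2 ^ 6) ^ 2 - 1) ≤ 2 ^ n * ((2 ^ n) ^ 2 - 1) := Nat.mul_le_mul h3 h4
    norm_num at h5
    omega

/-- The Gorenstein–Walter theorem (S0483), in the universe `u`. -/
def DihThm : Prop :=
  ∀ (X : Type u) [Group X] [Finite X] [Group.IsPerfect X] (S : Sylow 2 X) (n : ℕ), 2 ≤ n →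
    Nonempty ((S : Subgroup X) ≃* DihedralGroup n) →
    (∃ (F : Type) (_ : Field F) (_ : Fintype F), Odd (Fintype.card F) ∧ 3 < Fintype.card F ∧
        Nonempty (X ⧸ Cfsg.oddCore X ≃* Matrix.ProjectiveSpecialLinearGroup (Fin 2) F)) ∨
      Nonempty (X ⧸ Cfsg.oddCore X ≃* alternatingGroup (Fin 7))

theorem not_comm_of_card {G : Type*} [Group G] [Finite G] [IsSimpleGroup G]
    (hcard : Nat.card G = 175560) : ¬ IsMulCommutative G := by
  intro h
  letI : CommGroup G := { (inferInstance : Group G) with mul_comm := h.is_comm.comm }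
  have hp : (Nat.card G).Prime := IsSimpleGroup.prime_card
  rw [hcard] at hp
  revert hp
  norm_num

/-- **A simple group of order 175560 is `J₁`.** -/
theorem isoJ1_of_card (hstep : Step.{u}) (hC : CentThm.{u}) (hD : DihThm.{u}) {G : Type u} [Group G] [Finite G]
    [IsSimpleGroup G] (hcard : Nat.card G = 175560) : Cfsg.Spor.IsoJ1 G := by
  classical
  have h2 : Fact (Nat.Prime 2) := ⟨Nat.prime_two⟩
  have hG : ¬ IsMulCommutative G := not_comm_of_card hcard
  obtain ⟨T⟩ : Nonempty (Sylow 2 G) := inferInstance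
  have hT : Nat.card ↥(T : Subgroup G) = 8 :=
    SmallSimple.SylowEight.card_sylow_eight (by rw [hcard]; norm_num) (by rw [hcard]; norm_num) T
  by_cases hab : IsMulCommutative (T : Subgroup G)
  · rcases wType_of_step hstep G inferInstance hG T (comm_of_isMulCommutative hab) with h | h | h
    · exfalso
      obtain ⟨F, i1, i2, n, hn, hF, ⟨e⟩⟩ := h
      exact psl_even_ne hF hn ((Nat.card_congr e.toEquiv).symm.trans hcard)
    · exfalso
      obtain ⟨F, i1, i2, hF, -, ⟨e⟩⟩ := h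
      exact psl_odd_ne (by rw [Nat.odd_iff]; omega) ((Nat.card_congr e.toEquiv).symm.trans hcard)
    · exact isoJ1_of_isJR hC hcard h
  · exfalso
    have hO : ∀ N : Subgroup G, N.Normal → Odd (Nat.card N) → N = ⊥ := by
      intro N hN hodd
      rcases hN.eq_bot_or_eq_top with h | h
      · exact h
      · exfalso
        rw [h, Nat.card_congr Subgroup.topEquiv.toEquiv, Nat.odd_iff, hcard] at hodd
        omega
    rcases SmallSimple.OrderEight.dihedral_or_quaternion_of_card_eight hT hab with ⟨⟨e⟩⟩ | ⟨⟨e⟩⟩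
    · have hperf : Group.IsPerfect G := by
        refine ⟨?_⟩
        have hnc : commutator G ≠ ⊥ := by
          intro h
          apply hG
          have := (commutator_eq_bot_iff_center_eq_top (G := G)).1 h
          refine ⟨⟨fun a b => ?_⟩⟩
          have ha : a ∈ Subgroup.center G := by rw [this]; trivial
          exact (Subgroup.mem_center_iff.1 ha b).symm
        exact (Subgroup.Normal.eq_bot_or_eq_top (H := commutator G) inferInstance).resolve_left hnc
      have hcore : Cfsg.oddCore G = ⊥ := by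
        refine sSup_eq_bot.2 ?_
        rintro N ⟨hN1, hN2⟩
        exact hO N hN1 (Nat.coprime_two_right.1 hN2)
      have e1 : G ⧸ Cfsg.oddCore G ≃* G :=
        (QuotientGroup.quotientMulEquivOfEq hcore).trans QuotientGroup.quotientBot
      rcases hD G T 4 (by norm_num) ⟨e⟩ with ⟨F, iF, iF', hodd, h3, ⟨f⟩⟩ | ⟨⟨f⟩⟩
      · exact psl_odd_ne hodd ((Nat.card_congr (e1.symm.trans f).toEquiv).symm.trans hcard)
      · have h7 := (Nat.card_congr (e1.symm.trans f).toEquiv).symm.trans hcard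
        rw [nat_card_alternatingGroup] at h7
        revert h7
        simp [Nat.factorial]
    · have hZ := Cfsg.Agent.S0201.result T 0 (by simpa using e) hO
      rcases (inferInstance : (Subgroup.center G).Normal).eq_bot_or_eq_top with h | h
      · rw [h] at hZ
        simp at hZ
      · apply hG
        refine ⟨⟨fun a b => ?_⟩⟩
        have ha : a ∈ Subgroup.center G := by rw [h]; trivial
        exact (Subgroup.mem_center_iff.1 ha b).symm

end Cfsg.Agent.H555.JOneOrder
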