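import Mathlib

/-!
# Transport of doubly transitive actions

Small lemmas on faithful doubly transitive actions: transport along a bijection to a type in `Type`, along a group
isomorphism, and faithfulness for simple groups.
-/

set_option autoImplicit false

namespace Cfsg.Agent.H555.TwoTrans

open MulAction

/-- `G` has a faithful doubly transitive action on a finite set (in `Type`). -/
def HasTwoTrans (G : Type*) [Group G] : Prop :=
  ∃ (Ω : Type) (_ : Fintype Ω) (_ : MulAction G Ω) (_ : FaithfulSMul G Ω), IsMultiplyPretransitive G Ω 2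

/-- transport to `Fin n` -/
theorem hasTwoTrans_of_action {G X : Type*} [Group G] [MulAction G X] [Finite X] (hf : FaithfulSMul G X)
    (h : IsMultiplyPretransitive G X 2) : HasTwoTrans G := by
  classical
  let e : Fin (Nat.card X) ≃ X := (Finite.equivFin X).symm
  letI act : MulAction G (Fin (Nat.card X)) := e.mulAction G
  have hsm : ∀ (g : G) (x : Fin (Nat.card X)), e (g • x) = g • e x := by
    intro g x
    change e (e.symm (g • e x)) = _
    rw [Equiv.apply_symm_apply]
  refine ⟨Fin (Nat.card X), inferInstance, act, ⟨?_⟩, ?_⟩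
  · intro a b hab
    apply hf.eq_of_smul_eq_smul
    intro x
    have := hab (e.symm x)
    have h2 := congrArg e this
    rw [hsm, hsm, Equiv.apply_symm_apply] at h2
    exact h2
  · rw [is_two_pretransitive_iff] at h ⊢
    intro a b c d hab hcd
    obtain ⟨g, h1, h2⟩ := h (e.injective.ne hab) (e.injective.ne hcd)
    refine ⟨g, ?_, ?_⟩
    · apply e.injective
      rw [hsm, h1]
    · apply e.injective
      rw [hsm, h2]

/-- transport along an isomorphism -/
theorem HasTwoTrans.congr {G H : Type*} [Group G] [Group H] (e : G ≃* H) (h : HasTwoTrans H) : HasTwoTrans G := by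
  obtain ⟨Ω, i1, i2, i3, h⟩ := h
  letI act : MulAction G Ω := MulAction.compHom Ω e.toMonoidHom
  have hsm : ∀ (g : G) (x : Ω), g • x = (e g) • x := fun g x => rfl
  refine ⟨Ω, i1, act, ⟨?_⟩, ?_⟩
  · intro a b hab
    apply e.injective
    apply i3.eq_of_smul_eq_smul
    intro x
    exact hab x
  · rw [is_two_pretransitive_iff] at h ⊢
    intro a b c d hab hcd
    obtain ⟨g, h1, h2⟩ := h hab hcd
    refine ⟨e.symm g, ?_, ?_⟩
    · rw [hsm, MulEquiv.apply_symm_apply, h1]
    · rw [hsm, MulEquiv.apply_symm_apply, h2]

/-- a simple group acts faithfully on the cosets of a proper subgroup -/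
theorem faithful_of_simple {G : Type*} [Group G] [IsSimpleGroup G] {B : Subgroup G} (hB : B ≠ ⊤) :
    FaithfulSMul G (G ⧸ B) := by
  have hker : (MulAction.toPermHom G (G ⧸ B)).ker = ⊥ := by
    rcases (MonoidHom.normal_ker (MulAction.toPermHom G (G ⧸ B))).eq_bot_or_eq_top with h | h
    · exact h
    · exfalso
      apply hB
      rw [eq_top_iff]
      intro g _
      have hg : g ∈ (MulAction.toPermHom G (G ⧸ B)).ker := by rw [h]; trivial
      rw [MonoidHom.mem_ker] at hg
      have h2 := Equiv.ext_iff.1 hg ((1 : G) : G ⧸ B)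
      have h3 : ((g * 1 : G) : G ⧸ B) = ((1 : G) : G ⧸ B) := h2
      rw [mul_one, eq_comm, QuotientGroup.eq] at h3
      simpa using h3
  refine ⟨?_⟩
  intro a b hab
  have h1 : MulAction.toPermHom G (G ⧸ B) a = MulAction.toPermHom G (G ⧸ B) b := by
    ext x
    exact hab x
  exact (MonoidHom.ker_eq_bot_iff _).1 hker h1

/-- `PSL₂(F)`, `F` finite, acts faithfully and doubly transitively on the projective line. -/
theorem hasTwoTrans_PSL2 (F : Type*) [Field F] [Finite F] :
    HasTwoTrans (Matrix.ProjectiveSpecialLinearGroup (Fin 2) F) := by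
  classical
  have hfin : Finite (Projectivization F (Fin 2 → F)) := Quotient.finite _
  refine hasTwoTrans_of_action (X := Projectivization F (Fin 2 → F)) inferInstance ?_
  have h : IsMultiplyPretransitive (Matrix.SpecialLinearGroup (Fin 2) F) (Projectivization F (Fin 2 → F)) 2 :=
    inferInstance
  rw [is_two_pretransitive_iff] at h ⊢
  intro a b c d hab hcd
  obtain ⟨g, h1, h2⟩ := h hab hcd
  refine ⟨QuotientGroup.mk g, ?_, ?_⟩
  · exact h1
  · exact h2

end Cfsg.Agent.H555.TwoTrans
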