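import Mathlib
import Cfsg.Agent.ClassificationK.WalterIso
import Cfsg.Agent.S0322
import Cfsg.Agent.H555.TwoTrans

/-!
# Simple groups with abelian Sylow 2-subgroups and doubly transitive actions

All simple groups with abelian Sylow 2-subgroups except `J₁` have a faithful doubly transitive action.
-/

set_option autoImplicit false

namespace Cfsg.Agent.H555.AbelTwoTrans

open Cfsg Cfsg.Agent.Walter.Types Cfsg.Agent.Walter.Main Cfsg.Agent.H555.TwoTrans

universe u

/-- Janko–Ree type: doubly transitive or of order 175560. -/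
theorem of_isJR (hC : CentThm.{u}) {G : Type u} [Group G] [Finite G] [IsSimpleGroup G]
    (hna : ¬ IsMulCommutative G) (h : IsJR G) : HasTwoTrans G ∨ Cfsg.IsJ1 G := by
  have h2 : Fact (Nat.Prime 2) := ⟨Nat.prime_two⟩
  obtain ⟨S⟩ : Nonempty (Sylow 2 G) := inferInstance
  obtain ⟨⟨S₀, hS₀, hS₀2⟩, F, i1, i2, hmod, hq, hc⟩ := h
  have hsyl : ∀ P : Sylow 2 G, Nat.card P = 8 ∧ ∀ x ∈ P, x * x = 1 := by
    intro P
    let e := P.equiv S₀
    refine ⟨by rw [Nat.card_congr e.toEquiv]; exact hS₀, fun x hx => ?_⟩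
    have h3 := hS₀2 _ (e ⟨x, hx⟩).2
    have h4 : e ⟨x, hx⟩ * e ⟨x, hx⟩ = 1 := Subtype.ext h3
    rw [← map_mul, ← map_one e] at h4
    exact congrArg Subtype.val (e.injective h4)
  have hab : ∀ P : Sylow 2 G, ∀ a b : P, a * b = b * a := by
    intro P a b
    have h3 := (hsyl P).2 _ (mul_mem a.2 b.2)
    have ha := (hsyl P).2 _ a.2
    have hb := (hsyl P).2 _ b.2
    apply Subtype.ext
    calc (a : G) * b = ((a : G) * b)⁻¹ := (inv_eq_of_mul_eq_one_right h3).symm
      _ = (b : G)⁻¹ * (a : G)⁻¹ := mul_inv_rev _ _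
      _ = b * a := by rw [inv_eq_of_mul_eq_one_right ha, inv_eq_of_mul_eq_one_right hb]
  have h8 : Nat.card (S : Subgroup G) = 8 := (hsyl S).1
  have h8d : 8 ∣ Nat.card G := h8 ▸ (S : Subgroup G).card_subgroup_dvd_card
  have h16 : ¬ 16 ∣ Nat.card G := by
    intro h
    have h3 := (S : Subgroup G).card_mul_index
    rw [h8] at h3
    have h4 := S.not_dvd_index
    apply h4
    obtain ⟨k, hk⟩ := h
    rw [hk] at h3
    exact ⟨k, by omega⟩
  have hconj := Cfsg.Agent.SmallSimple.SylowEight.isConj_of_card_sylow_eight hna h8d h16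
  obtain ⟨t, ht⟩ : ∃ t : G, orderOf t = 2 := by
    apply exists_prime_orderOf_dvd_card'
    omega
  rcases hC G hab F (by omega) t ht (hc t ht) with ⟨m, hm, hF, hcard⟩ | ⟨-, hJ⟩
  · left
    have hodd : Odd (2 * m + 1) := ⟨m, rfl⟩
    obtain ⟨P, U, h1, h3, h4, h5, h6, h7, h9, -⟩ :=
      Cfsg.Agent.Ree.Ward.exists_bnPair hodd hF ht (hc t ht) hconj (fun P => (hsyl P).2) hcard
    have hB : P.B ≠ ⊤ := by
      intro h
      rw [h, Subgroup.index_top] at h9
      have : 0 < 3 ^ (3 * (2 * m + 1)) := by positivity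
      omega
    exact hasTwoTrans_of_action (faithful_of_simple hB) (Cfsg.Agent.S0322.result P h1)
  · exact Or.inr hJ

/-- **Simple groups with abelian Sylow 2-subgroups**: doubly transitive or of order 175560. -/
theorem main (hstep : Step.{u}) (hC : CentThm.{u}) {G : Type u} [Group G] [Finite G] [IsSimpleGroup G]
    (hna : ¬ IsMulCommutative G) (S : Sylow 2 G) (hS : IsMulCommutative (S : Subgroup G)) :
    HasTwoTrans G ∨ Cfsg.IsJ1 G := by
  rcases wType_of_step hstep G inferInstance hna S (comm_of_isMulCommutative hS) with h | h | h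
  · obtain ⟨F, i1, i2, n, hn, hF, ⟨e⟩⟩ := h
    exact Or.inl ((hasTwoTrans_PSL2 F).congr e)
  · obtain ⟨F, i1, i2, hF, -, ⟨e⟩⟩ := h
    exact Or.inl ((hasTwoTrans_PSL2 F).congr e)
  · exact of_isJR hC hna h

end Cfsg.Agent.H555.AbelTwoTrans
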