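/- helper555: small lemmas for S2958-S2961 -/
import Cfsg.Prelude.Def_Solvable
import Cfsg.Prelude.Def_SylowControl
import Cfsg.Agent.Lib.Cores
import Mathlib.GroupTheory.PGroup
import Mathlib.GroupTheory.Sylow
import Mathlib.GroupTheory.Commutator.Basic

set_option autoImplicit false

namespace Cfsg.Agent.H555.CharP

open Subgroup

/-- S2958 -/
theorem twoCover {G : Type*} [Group G] (X A B : Subgroup G)
    (hgen : (⨆ g : G, X.map (MulAut.conj g).toMonoidHom) = ⊤)
    (hcover : ∀ g : G, X.map (MulAut.conj g).toMonoidHom ≤ A ∨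
      X.map (MulAut.conj g).toMonoidHom ≤ B) : A = ⊤ ∨ B = ⊤ := by
  classical
  by_cases hB : B = ⊤
  · exact Or.inr hB
  left
  have hmap : ∀ (g h : G), (X.map (MulAut.conj g).toMonoidHom).map (MulAut.conj h).toMonoidHom
      = X.map (MulAut.conj (h * g)).toMonoidHom := by
    intro g h
    rw [Subgroup.map_map]
    congr 1
    ext x
    simp [mul_assoc]
  -- the set of g with X^g not in B
  have hex : ∃ g : G, ¬ X.map (MulAut.conj g).toMonoidHom ≤ B := by
    by_contra hcon
    push Not at hcon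
    apply hB
    rw [eq_top_iff, ← hgen]
    exact iSup_le hcon
  obtain ⟨g₀, hg₀⟩ := hex
  set N : Subgroup G := ⨆ g : {g : G // ¬ X.map (MulAut.conj g).toMonoidHom ≤ B},
    X.map (MulAut.conj (g : G)).toMonoidHom with hN
  have hNA : N ≤ A := by
    apply iSup_le
    rintro ⟨g, hg⟩
    exact (hcover g).resolve_right hg
  have hle : ∀ g : G, ¬ X.map (MulAut.conj g).toMonoidHom ≤ B →
      X.map (MulAut.conj g).toMonoidHom ≤ N := fun g hg =>
    le_iSup (fun g : {g : G // ¬ X.map (MulAut.conj g).toMonoidHom ≤ B} =>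
      X.map (MulAut.conj (g : G)).toMonoidHom) ⟨g, hg⟩
  -- elements of B carry N into N
  have hBN : ∀ b ∈ B, ∀ n ∈ N, b * n * b⁻¹ ∈ N := by
    intro b hb n hn
    have : N.map (MulAut.conj b).toMonoidHom ≤ N := by
      rw [hN, Subgroup.map_iSup]
      apply iSup_le
      rintro ⟨g, hg⟩
      rw [hmap]
      apply hle
      intro hcon
      apply hg
      rintro _ ⟨x, hx, rfl⟩
      have h1 : (MulAut.conj (b * g)).toMonoidHom x ∈ B := hcon ⟨x, hx, rfl⟩
      have h2 : (MulAut.conj g).toMonoidHom x = b⁻¹ * ((MulAut.conj (b * g)).toMonoidHom x) * b := by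
        simp [mul_assoc]
      rw [h2]
      exact B.mul_mem (B.mul_mem (B.inv_mem hb) h1) hb
    exact this ⟨n, hn, by simp⟩
  have hnB : B ≤ Subgroup.normalizer (N : Set G) := by
    intro b hb
    rw [Subgroup.mem_normalizer_iff]
    intro n
    constructor
    · intro hn
      exact hBN b hb n hn
    · intro hn
      have := hBN b⁻¹ (B.inv_mem hb) _ hn
      simpa [mul_assoc] using this
  have htop : (⊤ : Subgroup G) ≤ Subgroup.normalizer (N : Set G) := by
    rw [← hgen]
    apply iSup_le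
    intro g
    by_cases hg : X.map (MulAut.conj g).toMonoidHom ≤ B
    · exact hg.trans hnB
    · exact (hle g hg).trans Subgroup.le_normalizer
  have hNn : N.Normal := Subgroup.normalizer_eq_top_iff.mp (top_le_iff.mp htop)
  have hNtop : N = ⊤ := by
    rw [eq_top_iff, ← hgen]
    apply iSup_le
    intro g
    have h1 : X.map (MulAut.conj g).toMonoidHom
        = (X.map (MulAut.conj g₀).toMonoidHom).map (MulAut.conj (g * g₀⁻¹)).toMonoidHom := by
      rw [hmap]
      congr 3
      group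
    rw [h1]
    rintro _ ⟨x, hx, rfl⟩
    exact hNn.conj_mem x (hle g₀ hg₀ hx) (g * g₀⁻¹)
  rw [eq_top_iff, ← hNtop]
  exact hNA

/-- the basic commutator computation -/
theorem commute_pow {G : Type*} [Group G] (r x : G) (n : ℕ) (h : Commute (r * x * r⁻¹ * x⁻¹) x)
    (hn : (r * x * r⁻¹ * x⁻¹) ^ n = 1) : Commute (x ^ n) r := by
  set c := r * x * r⁻¹ * x⁻¹ with hc
  have h1 : r * x * r⁻¹ = c * x := by rw [hc]; group
  have h2 : r * x ^ n * r⁻¹ = x ^ n := by
    rw [← conj_pow, h1, h.mul_pow, hn, one_mul]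
  have : r * x ^ n = x ^ n * r := by
    calc r * x ^ n = r * x ^ n * r⁻¹ * r := by group
    _ = x ^ n * r := by rw [h2]
  exact this.symm

open Cfsg Cfsg.Agent.Lib.Cores
open scoped commutatorElement

theorem sylow_card {G : Type*} [Group G] [Finite G] {p : ℕ} [Fact p.Prime] (P Q : Sylow p G) :
    Nat.card (P : Subgroup G) = Nat.card (Q : Subgroup G) := by
  rw [P.card_eq_multiplicity, Q.card_eq_multiplicity]

variable {G : Type*} [Group G]

/-- an element a power `p^k` of which lies in a `p`-group is a `p`-element -/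
theorem isPElem_of_pow {p : ℕ} (R : Subgroup G) (hR : IsPGroup p R) {x : G} {k : ℕ}
    (h : x ^ (p ^ k) ∈ R) : ∃ m : ℕ, x ^ (p ^ m) = 1 := by
  obtain ⟨j, hj⟩ := hR ⟨_, h⟩
  refine ⟨k + j, ?_⟩
  have := congrArg Subtype.val hj
  simp only [SubmonoidClass.mk_pow, OneMemClass.coe_one] at this
  rw [pow_add, pow_mul]
  exact this

/-- `C` is a `p`-group if the commutators `r x r⁻¹ x⁻¹` (`x ∈ C`, `r ∈ R`) lie in a finite `p`-group `A`
centralised by `C`, and `C(R)` is contained in a `p`-group. -/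
theorem isPGroup_of_stab [Finite G] {p : ℕ} [hp : Fact p.Prime] (R A B C : Subgroup G)
    (hA : IsPGroup p A) (hB : IsPGroup p B)
    (h1 : ∀ x ∈ C, ∀ r ∈ R, r * x * r⁻¹ * x⁻¹ ∈ A)
    (h2 : ∀ x ∈ C, ∀ a ∈ A, Commute a x)
    (h3 : ∀ x ∈ C, x ∈ Subgroup.centralizer (R : Set G) → x ∈ B) : IsPGroup p C := by
  obtain ⟨n, hn⟩ := (IsPGroup.iff_card).mp hA
  intro x
  have hx : (x : G) ^ (p ^ n) ∈ B := by
    apply h3 _ (C.pow_mem x.2 _)
    rw [Subgroup.mem_centralizer_iff]
    intro r hr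
    have hcA := h1 x x.2 r hr
    have hc1 : (r * x * r⁻¹ * (x : G)⁻¹) ^ (p ^ n) = 1 := by
      have := pow_card_eq_one' (x := (⟨_, hcA⟩ : A))
      rw [hn] at this
      simpa using congrArg Subtype.val this
    exact (commute_pow r (x : G) (p ^ n) (h2 x x.2 _ hcA) hc1).symm
  obtain ⟨m, hm⟩ := isPElem_of_pow B hB hx
  exact ⟨m, Subtype.ext (by simpa using hm)⟩

/-- S2959 in the ambient group -/
theorem charP_of_normalized [Finite G] {p : ℕ} [Fact p.Prime]
    (hG : Subgroup.centralizer (pCore p G : Set G) ≤ pCore p G)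
    (L : Subgroup G) (hL : pCore p G ≤ Subgroup.normalizer (L : Set G)) :
    Subgroup.centralizer (pCore p ↥L : Set ↥L) ≤ pCore p ↥L := by
  set Q := pCore p G with hQ
  have hQp : IsPGroup p Q := pCore_isPGroup p
  have hQn : Q.Normal := pCore_normal p
  have hLn : (pCore p ↥L).Normal := pCore_normal p
  have hQL : Q.subgroupOf L ≤ pCore p ↥L := by
    apply le_pCore (hQn.subgroupOf L)
    exact hQp.comap_of_injective L.subtype L.subtype_injective
  apply le_pCore
  · infer_instance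
  set C := (Subgroup.centralizer (pCore p ↥L : Set ↥L)) with hC
  have key : IsPGroup p (C.map L.subtype) := by
    refine isPGroup_of_stab Q (Q ⊓ L) Q (C.map L.subtype) (hQp.to_le inf_le_left) hQp ?_ ?_ ?_
    · rintro _ ⟨x, hx, rfl⟩ r hr
      constructor
      · have : (L.subtype x) * r⁻¹ * (L.subtype x)⁻¹ ∈ Q := hQn.conj_mem _ (Q.inv_mem hr) _
        have h3 := Q.mul_mem hr this
        simpa [mul_assoc] using h3
      · have h3 := (Subgroup.mem_normalizer_iff.mp (hL hr) (L.subtype x)).mp x.2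
        exact L.mul_mem h3 (L.inv_mem x.2)
    · rintro _ ⟨x, hx, rfl⟩ a ⟨haQ, haL⟩
      have h3 : (⟨a, haL⟩ : L) ∈ pCore p ↥L := hQL haQ
      have h4 := Subgroup.mem_centralizer_iff.mp hx _ h3
      exact congrArg Subtype.val h4
    · intro x _ hx
      exact hG hx
  exact (key.of_equiv (C.equivMapOfInjective L.subtype L.subtype_injective).symm)

/-- S2960 -/
theorem centralizer_le_of_sylow [Finite G] {p : ℕ} [Fact p.Prime]
    (hG : Subgroup.centralizer (pCore p G : Set G) ≤ pCore p G) (T : Sylow p G) (Q : Subgroup G)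
    (hQT : Q ≤ (T : Subgroup G)) (hQn : (T : Subgroup G) ≤ Subgroup.normalizer (Q : Set G))
    (hC : (T : Subgroup G) ⊓ Subgroup.centralizer (Q : Set G) ≤ Q) :
    Subgroup.centralizer (Q : Set G) ≤ Q := by
  have hR : IsPGroup p (pCore p G) := pCore_isPGroup p
  have hRn : (pCore p G).Normal := pCore_normal p
  have hRT : pCore p G ≤ (T : Subgroup G) := pCore_le_sylow T
  have hQp : IsPGroup p Q := T.isPGroup'.to_le hQT
  have hTC : ∀ t ∈ (T : Subgroup G), ∀ x ∈ Subgroup.centralizer (Q : Set G),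
      t * x * t⁻¹ ∈ Subgroup.centralizer (Q : Set G) := by
    intro t ht x hx
    rw [Subgroup.mem_centralizer_iff]
    intro q hq
    have h1 : t⁻¹ * q * t ∈ Q := by
      have := (Subgroup.mem_normalizer_iff.mp (hQn ((T : Subgroup G).inv_mem ht)) q).mp hq
      simpa using this
    have h2 := Subgroup.mem_centralizer_iff.mp hx _ h1
    calc q * (t * x * t⁻¹) = t * ((t⁻¹ * q * t) * x) * t⁻¹ := by group
      _ = t * (x * (t⁻¹ * q * t)) * t⁻¹ := by rw [h2]
      _ = t * x * t⁻¹ * q := by group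
  have key : IsPGroup p (Subgroup.centralizer (Q : Set G)) := by
    refine isPGroup_of_stab (pCore p G) Q (pCore p G) _ hQp hR ?_ ?_ ?_
    · intro x hx r hr
      apply hC
      constructor
      · have : x * r⁻¹ * x⁻¹ ∈ pCore p G := hRn.conj_mem _ (Subgroup.inv_mem _ hr) _
        have h3 := Subgroup.mul_mem _ hr this
        have h4 : r * x * r⁻¹ * x⁻¹ = r * (x * r⁻¹ * x⁻¹) := by group
        rw [h4]
        exact hRT h3
      · exact Subgroup.mul_mem _ (hTC r (hRT hr) x hx) (Subgroup.inv_mem _ hx)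
    · intro x hx a ha
      exact Subgroup.mem_centralizer_iff.mp hx a ha
    · intro x _ hx
      exact hG hx
  -- `T C(Q)` is a `p`-group
  have hn : (T : Subgroup G) ≤ Subgroup.normalizer (Subgroup.centralizer (Q : Set G) : Set G) := by
    intro t ht
    rw [Subgroup.mem_normalizer_iff]
    intro x
    constructor
    · exact hTC t ht x
    · intro hx
      have := hTC t⁻¹ ((T : Subgroup G).inv_mem ht) _ hx
      simpa [mul_assoc] using this
  have hsup : IsPGroup p ((T : Subgroup G) ⊔ Subgroup.centralizer (Q : Set G) : Subgroup G) :=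
    IsPGroup.to_sup_of_normal_right' T.isPGroup' key hn
  have hle : Subgroup.centralizer (Q : Set G) ≤ (T : Subgroup G) := by
    have := T.is_maximal' hsup le_sup_left
    rw [← this]
    exact le_sup_right
  intro x hx
  exact hC ⟨hle hx, hx⟩

/-- S2961 -/
theorem charP_of_ge [Finite G] {p : ℕ} [Fact p.Prime]
    (hG : Subgroup.centralizer (pCore p G : Set G) ≤ pCore p G) (T : Sylow p G) (Q : Subgroup G)
    (hQT : Q ≤ (T : Subgroup G)) (hQn : (T : Subgroup G) ≤ Subgroup.normalizer (Q : Set G))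
    (hC : (T : Subgroup G) ⊓ Subgroup.centralizer (Q : Set G) ≤ Q) (L : Subgroup G) (hQL : Q ≤ L) :
    Subgroup.centralizer (pCore p ↥L : Set ↥L) ≤ pCore p ↥L := by
  have hCQ := centralizer_le_of_sylow hG T Q hQT hQn hC
  have hR : IsPGroup p (pCore p G) := pCore_isPGroup p
  have hRn : (pCore p G).Normal := pCore_normal p
  have hRT : pCore p G ≤ (T : Subgroup G) := pCore_le_sylow T
  have hQp : IsPGroup p Q := T.isPGroup'.to_le hQT
  have hLn : (pCore p ↥L).Normal := pCore_normal p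
  have hLp : IsPGroup p (pCore p ↥L) := pCore_isPGroup p
  -- the `p`-core and the centralizer, in `G`
  set O : Subgroup G := (pCore p ↥L).map L.subtype with hO
  have hOp : IsPGroup p O := hLp.map L.subtype
  set C : Subgroup G := (Subgroup.centralizer (pCore p ↥L : Set ↥L)).map L.subtype with hCdef
  have hRO : pCore p G ⊓ L ≤ O := by
    intro x hx
    have : (⟨x, hx.2⟩ : L) ∈ pCore p ↥L := by
      have h1 : (pCore p G).subgroupOf L ≤ pCore p ↥L := by
        apply le_pCore (hRn.subgroupOf L)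
        exact hR.comap_of_injective L.subtype L.subtype_injective
      exact h1 hx.1
    exact ⟨_, this, rfl⟩
  have hCL : C ≤ L := by rintro _ ⟨x, _, rfl⟩; exact x.2
  have hCO : ∀ x ∈ C, ∀ a ∈ O, Commute a x := by
    rintro _ ⟨x, hx, rfl⟩ _ ⟨a, ha, rfl⟩
    exact congrArg Subtype.val (Subgroup.mem_centralizer_iff.mp hx a ha)
  have hLC : ∀ l ∈ L, ∀ x ∈ C, l * x * l⁻¹ ∈ C := by
    rintro l hl _ ⟨x, hx, rfl⟩
    refine ⟨⟨l, hl⟩ * x * ⟨l, hl⟩⁻¹, ?_, by simp⟩
    exact (inferInstance : (Subgroup.centralizer (pCore p ↥L : Set ↥L)).Normal).conj_mem x hx _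
  -- the normal closure of the commutators
  -- D = [C, Q] acts trivially on R / (R ∩ Q)
  set D : Subgroup G := ⁅Q, C⁆ with hD
  have hDC : D ≤ C := by
    rw [hD, Subgroup.commutator_le]
    intro q hq x hx
    rw [commutatorElement_def]
    exact C.mul_mem (hLC q (hQL hq) x hx) (C.inv_mem hx)
  have hOC : ∀ x ∈ C, ∀ a ∈ pCore p G ⊓ Q, x * a * x⁻¹ = a := by
    intro x hx a ha
    have h1 : Commute a x := hCO x hx a (hRO ⟨ha.1, hQL ha.2⟩)
    rw [← h1.eq]; group
  set M : Subgroup G := pCore p G ⊓ Q with hM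
  have hCM : ∀ x ∈ C, x ∈ Subgroup.normalizer (M : Set G) := by
    intro x hx
    rw [Subgroup.mem_normalizer_iff]
    intro a
    constructor
    · intro ha
      rw [hOC x hx a ha]; exact ha
    · intro ha
      have h2 := hOC x⁻¹ (C.inv_mem hx) _ ha
      have h3 : a = x * a * x⁻¹ := by
        rw [← h2]; group
      rw [h3]; exact ha
  have hQM : ∀ x ∈ Q, x ∈ Subgroup.normalizer (M : Set G) := by
    intro x hx
    rw [Subgroup.mem_normalizer_iff]
    intro a
    constructor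
    · intro ha
      exact ⟨hRn.conj_mem _ ha.1 _, Q.mul_mem (Q.mul_mem hx ha.2) (Q.inv_mem hx)⟩
    · intro ha
      have h3 : a = x⁻¹ * (x * a * x⁻¹) * x⁻¹⁻¹ := by group
      rw [h3]
      exact ⟨hRn.conj_mem _ ha.1 _, Q.mul_mem (Q.mul_mem (Q.inv_mem hx) ha.2)
        (by simpa using hx)⟩
  -- kernel of the action on R/(R ∩ Q)
  let K : Subgroup G :=
    { carrier := {x | x ∈ Subgroup.normalizer (M : Set G) ∧ ∀ r ∈ pCore p G, r * x * r⁻¹ * x⁻¹ ∈ M}
      one_mem' := ⟨Subgroup.one_mem _, fun r hr => by simp⟩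
      mul_mem' := by
        rintro x y ⟨hx1, hx2⟩ ⟨hy1, hy2⟩
        refine ⟨Subgroup.mul_mem _ hx1 hy1, fun r hr => ?_⟩
        have h1 : r * (x * y) * r⁻¹ * (x * y)⁻¹
            = (r * x * r⁻¹ * x⁻¹) * (x * (r * y * r⁻¹ * y⁻¹) * x⁻¹) := by group
        rw [h1]
        exact M.mul_mem (hx2 r hr) ((Subgroup.mem_normalizer_iff.mp hx1 _).mp (hy2 r hr))
      inv_mem' := by
        rintro x ⟨hx1, hx2⟩
        refine ⟨Subgroup.inv_mem _ hx1, fun r hr => ?_⟩
        have h1 : r * x⁻¹ * r⁻¹ * x⁻¹⁻¹ = x⁻¹ * (x * r * x⁻¹ * r⁻¹) * x⁻¹⁻¹ := by group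
        rw [h1]
        apply (Subgroup.mem_normalizer_iff.mp (Subgroup.inv_mem _ hx1) _).mp
        have h2 : x * r * x⁻¹ * r⁻¹ = (r * x * r⁻¹ * x⁻¹)⁻¹ := by group
        rw [h2]
        exact M.inv_mem (hx2 r hr) }
  have hQK : ∀ q ∈ Q, q ∈ K := by
    intro q hq
    refine ⟨hQM q hq, fun r hr => ⟨?_, ?_⟩⟩
    · have h1 : r * q * r⁻¹ * q⁻¹ = r * (q * r⁻¹ * q⁻¹) := by group
      rw [h1]
      exact Subgroup.mul_mem _ hr (hRn.conj_mem _ (Subgroup.inv_mem _ hr) _)
    · exact Q.mul_mem ((Subgroup.mem_normalizer_iff.mp (hQn (hRT hr)) _).mp hq) (Q.inv_mem hq)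
  have hCK : ∀ c ∈ C, ∀ x ∈ K, c * x * c⁻¹ ∈ K := by
    rintro c hc x ⟨hx1, hx2⟩
    refine ⟨Subgroup.mul_mem _ (Subgroup.mul_mem _ (hCM c hc) hx1) (Subgroup.inv_mem _ (hCM c hc)),
      fun r hr => ?_⟩
    have h1 : r * (c * x * c⁻¹) * r⁻¹ * (c * x * c⁻¹)⁻¹
        = c * ((c⁻¹ * r * c⁻¹⁻¹) * x * (c⁻¹ * r * c⁻¹⁻¹)⁻¹ * x⁻¹) * c⁻¹ := by group
    rw [h1]
    exact (Subgroup.mem_normalizer_iff.mp (hCM c hc) _).mp (hx2 _ (hRn.conj_mem _ hr _))
  have hDK : D ≤ K := by
    rw [hD, Subgroup.commutator_le]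
    intro q hq x hx
    rw [commutatorElement_def]
    have h1 : q * x * q⁻¹ * x⁻¹ = q * (x * q⁻¹ * x⁻¹) := by group
    rw [h1]
    exact K.mul_mem (hQK q hq) (hCK x hx _ (hQK _ (Q.inv_mem hq)))
  have hDp : IsPGroup p D := by
    refine isPGroup_of_stab (pCore p G) M (pCore p G) D (hR.to_le inf_le_left) hR ?_ ?_ ?_
    · intro x hx r hr
      exact (hDK hx).2 r hr
    · intro x hx a ha
      exact hCO x (hDC hx) a (hRO ⟨ha.1, hQL ha.2⟩)
    · intro x _ hx
      exact hG hx
  -- `D` is normalised by `C`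
  have hCD : ∀ x ∈ C, ∀ d ∈ D, x * d * x⁻¹ ∈ D := by
    intro x hx d hd
    rw [hD, Subgroup.commutator_def] at hd
    induction hd using Subgroup.closure_induction with
    | mem y hy =>
      obtain ⟨q, hq, y, hy, rfl⟩ := hy
      have h1 : x * ⁅q, y⁆ * x⁻¹ = ⁅q, x⁆⁻¹ * ⁅q, x * y⁆ := by
        simp only [commutatorElement_def]; group
      rw [h1]
      exact D.mul_mem (D.inv_mem (Subgroup.commutator_mem_commutator hq hx))
        (Subgroup.commutator_mem_commutator hq (C.mul_mem hx hy))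
    | one => simp [D.one_mem]
    | mul a b _ _ ha hb =>
      have h1 : x * (a * b) * x⁻¹ = (x * a * x⁻¹) * (x * b * x⁻¹) := by group
      rw [h1]; exact D.mul_mem ha hb
    | inv a _ ha =>
      have h1 : x * a⁻¹ * x⁻¹ = (x * a * x⁻¹)⁻¹ := by group
      rw [h1]; exact D.inv_mem ha
  have hDO : D ≤ O := by
    set N : Subgroup ↥L := Subgroup.centralizer (pCore p ↥L : Set ↥L) with hN
    have hNn : N.Normal := inferInstance
    have hmem : ∀ y : N, ((y : L) : G) ∈ C := fun y => ⟨y, y.2, rfl⟩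
    let D₂ : Subgroup ↥N := D.comap (L.subtype.comp N.subtype)
    have hD₂n : D₂.Normal := by
      constructor
      intro d hd x
      exact hCD _ (hmem x) _ hd
    have hD₂p : IsPGroup p D₂ := by
      apply hDp.comap_of_injective
      exact L.subtype_injective.comp N.subtype_injective
    have h1 : D₂ ≤ pCore p ↥N := le_pCore hD₂n hD₂p
    have h2 : D₂.map N.subtype ≤ pCore p ↥L := by
      refine (Subgroup.map_mono h1).trans ?_
      rw [map_subtype_pCore p hNn]
      exact inf_le_right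
    intro d hd
    obtain ⟨y, hy, hyd⟩ := hDC hd
    have hyd' : (y : G) = d := hyd
    refine ⟨y, h2 ⟨⟨y, hy⟩, ?_, rfl⟩, hyd⟩
    change (y : G) ∈ D
    rw [hyd']; exact hd
  apply le_pCore
  · infer_instance
  have key : IsPGroup p C := by
    refine isPGroup_of_stab Q D Q C hDp hQp ?_ ?_ ?_
    · intro x hx r hr
      have := Subgroup.commutator_mem_commutator hr hx
      rwa [commutatorElement_def] at this
    · intro x hx a ha
      exact hCO x hx a (hDO ha)
    · intro x _ hx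
      exact hCQ hx
  exact (key.of_equiv ((Subgroup.centralizer (pCore p ↥L : Set ↥L)).equivMapOfInjective L.subtype
    L.subtype_injective).symm)

/-- S2940 -/
theorem exists_sylow_inf [Finite G] {p : ℕ} [Fact p.Prime] (S : Sylow p G) (G₁ G₂ : Subgroup G)
    (h1 : (S : Subgroup G) ≤ G₁) (h2 : (S : Subgroup G) ≤ G₂)
    (hfact : ∀ g : G, ∃ g₁ ∈ G₁, ∃ g₂ ∈ G₂, g = g₁ * g₂) (g : G) :
    ∃ U : Sylow p G, (S : Subgroup G) ⊓ Cfsg.subgroupConjRight g (S : Subgroup G) ≤ (U : Subgroup G) ∧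
      (U : Subgroup G) ≤ G₁ ⊓ Cfsg.subgroupConjRight g G₂ := by
  classical
  obtain ⟨a, ha, b, hb, hab⟩ := hfact g⁻¹
  -- g = b⁻¹ a⁻¹
  have hg : g = b⁻¹ * a⁻¹ := by rw [← mul_inv_rev, ← hab, inv_inv]
  have hmem : ∀ (g : G) (X : Subgroup G) (y : G), y ∈ Cfsg.subgroupConjRight g X ↔ g * y * g⁻¹ ∈ X := by
    intro g X y
    rw [Cfsg.subgroupConjRight]
    constructor
    · rintro ⟨x, hx, rfl⟩
      simpa [mul_assoc] using hx
    · intro h
      exact ⟨_, h, by simp [mul_assoc]⟩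
  set H : Subgroup G := G₁ ⊓ Cfsg.subgroupConjRight g G₂ with hH
  -- S^{a⁻¹} ≤ H
  have hS1 : Cfsg.subgroupConjRight a⁻¹ (S : Subgroup G) ≤ H := by
    intro y hy
    rw [hmem] at hy
    constructor
    · have h3 := h1 hy
      have : y = a * (a⁻¹ * y * a⁻¹⁻¹) * a⁻¹ := by group
      rw [this]
      exact G₁.mul_mem (G₁.mul_mem ha h3) (G₁.inv_mem ha)
    · change y ∈ Cfsg.subgroupConjRight g G₂
      rw [hmem, hg]
      have : b⁻¹ * a⁻¹ * y * (b⁻¹ * a⁻¹)⁻¹ = b⁻¹ * (a⁻¹ * y * a⁻¹⁻¹) * b := by group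
      rw [this]
      exact G₂.mul_mem (G₂.mul_mem (G₂.inv_mem hb) (h2 hy)) hb
  -- the p-group S ∩ S^g lies in H
  have hS2 : (S : Subgroup G) ⊓ Cfsg.subgroupConjRight g (S : Subgroup G) ≤ H := by
    rintro y ⟨hy1, hy2⟩
    refine ⟨h1 hy1, ?_⟩
    have hy2' : y ∈ Cfsg.subgroupConjRight g (S : Subgroup G) := hy2
    rw [hmem] at hy2'
    change y ∈ Cfsg.subgroupConjRight g G₂
    rw [hmem]; exact h2 hy2'
  have hp2 : IsPGroup p (((S : Subgroup G) ⊓ Cfsg.subgroupConjRight g (S : Subgroup G)).subgroupOf H) :=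
    (S.isPGroup'.to_le inf_le_left).comap_of_injective H.subtype H.subtype_injective
  obtain ⟨U, hU⟩ := hp2.exists_le_sylow
  have hcard : Nat.card ((U : Subgroup H).map H.subtype) = Nat.card (S : Subgroup G) := by
    rw [Subgroup.card_map_of_injective H.subtype_injective]
    apply le_antisymm
    · -- a p-subgroup of G
      obtain ⟨V, hV⟩ := (U.isPGroup'.map H.subtype).exists_le_sylow
      have h5 : Nat.card ((U : Subgroup H).map H.subtype) ≤ Nat.card (V : Subgroup G) :=
        Subgroup.card_le_of_le hV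
      rw [Subgroup.card_map_of_injective H.subtype_injective] at h5
      exact h5.trans (le_of_eq (sylow_card V S))
    · have hp3 : IsPGroup p ((Cfsg.subgroupConjRight a⁻¹ (S : Subgroup G)).subgroupOf H) := by
        apply IsPGroup.comap_of_injective _ H.subtype H.subtype_injective
        exact S.isPGroup'.map _
      obtain ⟨W, hW⟩ := hp3.exists_le_sylow
      have h6 := Subgroup.card_le_of_le hW
      rw [sylow_card W U] at h6
      have h7 : Nat.card ((Cfsg.subgroupConjRight a⁻¹ (S : Subgroup G)).subgroupOf H)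
          = Nat.card (S : Subgroup G) := by
        rw [Nat.card_congr (Subgroup.subgroupOfEquivOfLe hS1).toEquiv, Cfsg.subgroupConjRight]
        exact Subgroup.card_map_of_injective (MulAut.conj a⁻¹⁻¹).injective
      rw [← h7]; exact h6
  refine ⟨⟨(U : Subgroup H).map H.subtype, U.isPGroup'.map _, ?_⟩, ?_, ?_⟩
  · intro V hV hle
    obtain ⟨V', hV'⟩ := hV.exists_le_sylow
    symm
    apply Subgroup.eq_of_le_of_card_ge hle
    rw [hcard, ← sylow_card V' S]
    exact Subgroup.card_le_of_le hV'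
  · intro y hy
    exact ⟨⟨y, hS2 hy⟩, hU hy, rfl⟩
  · rintro _ ⟨y, _, rfl⟩
    exact y.2

end Cfsg.Agent.H555.CharP
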