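import Mathlib
import Cfsg.Prelude.Def_CaseTheorems
import Cfsg.Agent.S0205
import Cfsg.Agent.S0499
import Cfsg.Agent.S0506
import Cfsg.Agent.S0993
import Cfsg.Agent.SmallSimple.PSLTwoPart

/-!
# Simple groups whose order divides 175560 and is divisible by 19
-/

set_option autoImplicit false

namespace Cfsg.Agent.H555.NineteenSimple

open Subgroup

theorem not_psl_odd {q N : ℕ} (hq : Odd q) (h : 2 * N = q * (q ^ 2 - 1)) (hN : N ∣ 175560) (h19 : 19 ∣ N) :
    False := by
  have hpos : 0 < N := Nat.pos_of_dvd_of_pos hN (by norm_num)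
  have hle : N ≤ 175560 := Nat.le_of_dvd (by norm_num) hN
  have hq70 : q ≤ 70 := by
    by_contra hlt
    have h1 : 71 ≤ q := by omega
    have h4 : 71 ^ 2 - 1 ≤ q ^ 2 - 1 := Nat.sub_le_sub_right (Nat.pow_le_pow_left h1 2) 1
    have h5 : 71 * (71 ^ 2 - 1) ≤ q * (q ^ 2 - 1) := Nat.mul_le_mul h1 h4
    norm_num at h5
    omega
  have key : ∀ q : ℕ, q ≤ 70 → q % 2 = 1 → q * (q ^ 2 - 1) ∣ 351120 → 38 ∣ q * (q ^ 2 - 1) → q = 1 := by
    decide +kernel
  have h1 : q * (q ^ 2 - 1) ∣ 351120 := by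
    rw [← h]
    exact Nat.mul_dvd_mul_left 2 hN
  have h2 : 38 ∣ q * (q ^ 2 - 1) := by
    rw [← h]
    exact Nat.mul_dvd_mul_left 2 h19
  have h3 := key q hq70 (Nat.odd_iff.1 hq) h1 h2
  subst h3
  norm_num at h
  omega

theorem not_psl_even {q N : ℕ} {a : ℕ} (ha : 2 ≤ a) (hq : q = 2 ^ a) (h : N = q * (q ^ 2 - 1)) (hN : N ∣ 175560)
    (h19 : 19 ∣ N) : False := by
  have h1 : q ∣ 175560 := (Dvd.intro _ h.symm).trans hN
  have ha3 : a ≤ 3 := by
    by_contra hlt
    have h2 : 2 ^ 4 ∣ 175560 := (Nat.pow_dvd_pow 2 (by omega)).trans (hq ▸ h1)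
    revert h2
    norm_num
  interval_cases a
  · subst hq
    norm_num at h
    subst h
    revert h19
    norm_num
  · subst hq
    norm_num at h
    subst h
    revert h19
    norm_num

theorem not_ree {G : Type*} [Group G] (h : Cfsg.IsRee G) (hd : Nat.card G ∣ 175560) : False := by
  obtain ⟨-, m, hm, hc⟩ := h
  have h27 : 27 ∣ 175560 := by
    have h3 : 3 ^ 3 ∣ (3 ^ (2 * m + 1)) ^ 3 := pow_dvd_pow_of_dvd (dvd_pow_self 3 (by omega)) 3
    have h4 : (3 ^ (2 * m + 1)) ^ 3 ∣ Nat.card G := by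
      rw [hc, mul_assoc]
      exact Dvd.intro _ rfl
    exact (h3.trans h4).trans hd
  revert h27
  norm_num

theorem card_eq {S : Type*} [Group S] [Finite S] [IsSimpleGroup S] (hS : ¬ IsMulCommutative S)
    (hd : Nat.card S ∣ 175560) (h19 : 19 ∣ Nat.card S) : Nat.card S = 175560 := by
  have h2 : Fact (Nat.Prime 2) := ⟨Nat.prime_two⟩
  have heven : Even (Nat.card S) := by
    by_contra hodd
    have hsol := Cfsg.Agent.S0205.result (Nat.not_even_iff_odd.1 hodd)
    have hc := IsSimpleGroup.comm_iff_isSolvable.2 hsol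
    exact hS ⟨⟨hc⟩⟩
  have h16 : ¬ 16 ∣ Nat.card S := fun h => by
    have := h.trans hd
    revert this
    norm_num
  have h4 : 4 ∣ Nat.card S := by
    rcases Cfsg.Agent.S0499.result hS heven with h | h | h
    · exact (by norm_num : 4 ∣ 12).trans h
    · exact absurd h h16
    · exact (by norm_num : 4 ∣ 56).trans h
  obtain ⟨T⟩ : Nonempty (Sylow 2 S) := inferInstance
  obtain ⟨k, hk⟩ := IsPGroup.iff_card.1 T.isPGroup'
  have hk3 : k ≤ 3 := by
    by_contra hlt
    apply h16
    have h1 : 2 ^ 4 ∣ 2 ^ k := Nat.pow_dvd_pow 2 (by omega)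
    rw [← hk] at h1
    exact (by norm_num : 16 ∣ 2 ^ 4).trans (h1.trans (T : Subgroup S).card_subgroup_dvd_card)
  have hk2 : 2 ≤ k := by
    have h1 : 2 ^ 2 ∣ Nat.card (T : Subgroup S) := T.pow_dvd_card_of_pow_dvd_card (by norm_num; exact h4)
    rw [hk] at h1
    exact (Nat.pow_dvd_pow_iff_le_right (by norm_num)).1 h1
  have hk23 : k = 2 ∨ k = 3 := by omega
  rcases hk23 with rfl | rfl
  · have hT : IsMulCommutative (T : Subgroup S) := IsPGroup.isMulCommutative_of_card_eq_prime_sq (p := 2) hk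
    rcases Cfsg.Agent.S0506.result hS T hT with ⟨a, ha, F, iF, iF', hF, ⟨e⟩⟩ | ⟨F, iF, iF', hF, ⟨e⟩⟩ | h | h
    · exfalso
      have hev : Even (Fintype.card F) := by
        rw [hF]
        exact (even_two).pow_of_ne_zero (by omega)
      have hN := SmallSimple.PSLTwoPart.card_psl_two_even hev
      rw [← Nat.card_congr e.toEquiv] at hN
      exact not_psl_even ha hF hN hd h19
    · exfalso
      have hodd : Odd (Fintype.card F) := by rw [Nat.odd_iff]; omega
      have hN := SmallSimple.PSLTwoPart.card_psl_two_odd hodd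
      rw [← Nat.card_congr e.toEquiv] at hN
      exact not_psl_odd hodd hN hd h19
    · exact absurd hd (fun hd => not_ree h hd)
    · exact h.2
  · rcases Cfsg.Agent.S0993.result hS T (by rw [hk]; norm_num) with ⟨F, iF, iF', hF, ⟨e⟩⟩ | ⟨F, iF, iF', hF, ⟨e⟩⟩ |
      ⟨⟨e⟩⟩ | h | h
    · exfalso
      have hev : Even (Fintype.card F) := by rw [hF]; decide
      have hN := SmallSimple.PSLTwoPart.card_psl_two_even hev
      rw [← Nat.card_congr e.toEquiv] at hN
      exact not_psl_even (a := 3) (by norm_num) (hF.trans (by norm_num)) hN hd h19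
    · exfalso
      have hodd : Odd (Fintype.card F) := by rw [Nat.odd_iff]; omega
      have hN := SmallSimple.PSLTwoPart.card_psl_two_odd hodd
      rw [← Nat.card_congr e.toEquiv] at hN
      exact not_psl_odd hodd hN hd h19
    · exfalso
      rw [Nat.card_congr e.toEquiv, nat_card_alternatingGroup] at h19
      revert h19
      simp [Nat.factorial]
    · exact h.2
    · exact absurd hd (fun hd => not_ree h hd)

end Cfsg.Agent.H555.NineteenSimple
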