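import Mathlib
import Cfsg.Agent.H555.Pronormal

/-!
# Pronormality of the subgroups which contain a Sylow subgroup: the extension criteria
-/

set_option autoImplicit false

namespace Cfsg.Agent.H555.PronormalExt

open Subgroup Cfsg.Agent.H555.Pronormal

variable {G : Type*} [Group G] [Finite G] {p : ℕ} [Fact p.Prime]

/-- Two Sylow subgroups of `G` in `W` are conjugate in `W`. -/
theorem sylow_conj (P Q : Sylow p G) {W : Subgroup G} (hP : (P : Subgroup G) ≤ W) (hQ : (Q : Subgroup G) ≤ W) :
    ∃ x ∈ W, cj x (P : Subgroup G) = Q := by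
  obtain ⟨x, hx⟩ := MulAction.exists_smul_eq ↥W (P.subtype hP) (Q.subtype hQ)
  refine ⟨x, x.2, ?_⟩
  have h1 := congrArg (fun Z : Sylow p ↥W => ((Z : Subgroup ↥W)).map W.subtype) hx
  simp only [Sylow.coe_subgroup_smul, Sylow.coe_subtype] at h1
  change (cj x ((P : Subgroup G).subgroupOf W)).map W.subtype = ((Q : Subgroup G).subgroupOf W).map W.subtype at h1
  rw [map_cj, Subgroup.subgroupOf_map_subtype, Subgroup.subgroupOf_map_subtype, inf_eq_left.2 hP,
    inf_eq_left.2 hQ] at h1
  exact h1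

/-- For every Sylow subgroup `S` of `G`, `S ∩ A` is conjugate to `T` by an element of `A`. -/
theorem exists_conj_inf (A : Subgroup G) [A.Normal] {T : Subgroup G}
    (hT : ∃ P : Sylow p ↥A, (P : Subgroup ↥A).map A.subtype = T) (S : Sylow p G) :
    ∃ a ∈ A, cj a ((S : Subgroup G) ⊓ A) = T := by
  obtain ⟨P, hP⟩ := hT
  obtain ⟨a, ha⟩ := MulAction.exists_smul_eq ↥A
    ((Cfsg.Agent.Lib.SylowNormalInf.isPGroup_subgroupOf S A).toSylow
      (Cfsg.Agent.Lib.SylowNormalInf.not_dvd_relIndex S A)) P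
  refine ⟨a, a.2, ?_⟩
  have h1 := congrArg (fun Z : Sylow p ↥A => ((Z : Subgroup ↥A)).map A.subtype) ha
  simp only [Sylow.coe_subgroup_smul] at h1
  change (cj a ((S : Subgroup G).subgroupOf A)).map A.subtype = (P : Subgroup ↥A).map A.subtype at h1
  rw [map_cj, Subgroup.subgroupOf_map_subtype, hP] at h1
  exact h1

theorem over_normalizer (A : Subgroup G) [A.Normal] {T : Subgroup G}
    (hT : ∃ P : Sylow p ↥A, (P : Subgroup ↥A).map A.subtype = T) : Over p (normalizer (T : Set G)) := by
  obtain ⟨S⟩ : Nonempty (Sylow p G) := inferInstance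
  obtain ⟨a, ha, h⟩ := exists_conj_inf A hT S
  refine ⟨a • S, ?_⟩
  rw [Sylow.coe_subgroup_smul]
  change cj a (S : Subgroup G) ≤ _
  intro s hs
  rw [← cj_eq_iff_mem, ← h, cj_inf, cj_normal a A, cj_inf, cj_normal s A, cj_of_mem hs]

/-- From the quotient `N_G(T)/T` to the subgroups of `N_G(T)`. -/
theorem local_of_quotient {T : Subgroup G} [(T.subgroupOf (normalizer (T : Set G))).Normal]
    (h : ∀ K : Subgroup (↥(normalizer (T : Set G)) ⧸ T.subgroupOf (normalizer (T : Set G))), Over p K →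
      Cfsg.IsPronormal K)
    (K : Subgroup G) (hTK : T ≤ K) (hKN : K ≤ normalizer (T : Set G)) (hK : Over p K) :
    Prn (normalizer (T : Set G)) K := by
  rw [← isPronormal_subgroupOf_iff hKN]
  apply isPronormal_of_map (f := QuotientGroup.mk' (T.subgroupOf (normalizer (T : Set G))))
  · rw [QuotientGroup.ker_mk']
    intro x hx
    exact hTK hx
  · exact h _ (over_map (QuotientGroup.mk'_surjective _) (over_subgroupOf hK hKN))

/-- From `G` to the quotient `N_G(T)/T`. -/
theorem quotient_of_all {T : Subgroup G} [(T.subgroupOf (normalizer (T : Set G))).Normal]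
    (hN : Over p (normalizer (T : Set G))) (h : ∀ K : Subgroup G, Over p K → Cfsg.IsPronormal K)
    (K : Subgroup (↥(normalizer (T : Set G)) ⧸ T.subgroupOf (normalizer (T : Set G)))) (hK : Over p K) :
    Cfsg.IsPronormal K := by
  have hs := QuotientGroup.mk'_surjective (T.subgroupOf (normalizer (T : Set G)))
  have h1 : Over p (K.comap (QuotientGroup.mk' (T.subgroupOf (normalizer (T : Set G))))) := over_comap hs hK
  set K1 : Subgroup G :=
    (K.comap (QuotientGroup.mk' (T.subgroupOf (normalizer (T : Set G))))).map (normalizer (T : Set G)).subtype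
    with hK1
  have h2 : K1.subgroupOf (normalizer (T : Set G)) =
      K.comap (QuotientGroup.mk' (T.subgroupOf (normalizer (T : Set G)))) :=
    Subgroup.comap_map_eq_self_of_injective (Subgroup.subtype_injective _) _
  have h3 : K1 ≤ normalizer (T : Set G) := Subgroup.map_subtype_le _
  have h4 : Over p K1 := over_of_subgroupOf hN (by rw [h2]; exact h1)
  have h5 : Prn (normalizer (T : Set G)) K1 := (isPronormal_iff.1 (h K1 h4)).mono le_top
  rw [← isPronormal_subgroupOf_iff h3, h2] at h5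
  have h6 := isPronormal_map hs h5
  rwa [Subgroup.map_comap_eq_self_of_surjective hs] at h6

/-- **The direct part.** -/
theorem mp (A : Subgroup G) [A.Normal] (T : Subgroup G)
    (hT : ∃ P : Sylow p ↥A, (P : Subgroup ↥A).map A.subtype = T)
    [(T.subgroupOf (normalizer (T : Set G))).Normal] (h : ∀ K : Subgroup G, Over p K → Cfsg.IsPronormal K) :
    (∀ K : Subgroup (↥(normalizer (T : Set G)) ⧸ T.subgroupOf (normalizer (T : Set G))), Over p K →
      Cfsg.IsPronormal K) ∧
    ∀ K : Subgroup G, Over p K → (normalizer (K : Set G)).map (QuotientGroup.mk' A) =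
      normalizer ((K.map (QuotientGroup.mk' A) : Subgroup (G ⧸ A)) : Set (G ⧸ A)) :=
  ⟨quotient_of_all (over_normalizer A hT) h, fun K hK => map_normalizer_of_isPronormal A (h K hK)⟩

/-- **The converse part.** -/
theorem mpr (A : Subgroup G) [A.Normal] (hA : ∀ K : Subgroup ↥A, Over p K → Cfsg.IsPronormal K)
    (hQ : ∀ K : Subgroup (G ⧸ A), Over p K → Cfsg.IsPronormal K) (T : Subgroup G)
    (hT : ∃ P : Sylow p ↥A, (P : Subgroup ↥A).map A.subtype = T)
    [(T.subgroupOf (normalizer (T : Set G))).Normal]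
    (h1 : ∀ K : Subgroup (↥(normalizer (T : Set G)) ⧸ T.subgroupOf (normalizer (T : Set G))), Over p K →
      Cfsg.IsPronormal K)
    (h2 : ∀ K : Subgroup G, Over p K → (normalizer (K : Set G)).map (QuotientGroup.mk' A) =
      normalizer ((K.map (QuotientGroup.mk' A) : Subgroup (G ⧸ A)) : Set (G ⧸ A)))
    (H : Subgroup G) (hH : Over p H) : Cfsg.IsPronormal H := by
  obtain ⟨S, hS⟩ := hH
  obtain ⟨a, ha, h⟩ := exists_conj_inf A hT S
  apply isPronormal_of_cj a
  have hcj : ((a • S : Sylow p G) : Subgroup G) = cj a (S : Subgroup G) := Sylow.coe_subgroup_smul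
  have hover : Over p (cj a H) := Over.cj' ⟨S, hS⟩ a
  refine isPronormal_of A hA T (local_of_quotient h1) (cj a H) (a • S) ?_ ?_ ?_ ?_
  · rw [hcj]
    exact cj_mono a hS
  · rw [hcj, ← h, cj_inf, cj_normal a A]
  · exact hQ _ (over_map (QuotientGroup.mk'_surjective A) hover)
  · exact h2 _ hover

/-- Self-normalizing Sylow subgroups: all overgroups are pronormal. -/
theorem isPronormal_of_self (hQ : ∀ P : Sylow p G, normalizer ((P : Subgroup G) : Set G) = P) (K : Subgroup G)
    (hK : Over p K) : Cfsg.IsPronormal K := by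
  obtain ⟨P, hP⟩ := hK
  intro g
  change ∃ x ∈ K ⊔ cj g K, cj g K = cj x K
  have h1 : ((g • P : Sylow p G) : Subgroup G) = cj g (P : Subgroup G) := Sylow.coe_subgroup_smul
  obtain ⟨x, hx, hx2⟩ := sylow_conj P (g • P) (W := K ⊔ cj g K) (hP.trans le_sup_left)
    (by rw [h1]; exact (cj_mono g hP).trans le_sup_right)
  refine ⟨x, hx, ?_⟩
  rw [h1] at hx2
  have h2 : x⁻¹ * g ∈ (P : Subgroup G) := by
    rw [← hQ P, ← cj_eq_iff_mem, cj_mul, ← hx2, cj_inv_cj]
  have h3 : cj (x⁻¹ * g) K = K := cj_of_mem (hP h2)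
  rw [cj_mul] at h3
  have h4 := congrArg (cj x) h3
  rwa [cj_cj_inv] at h4

/-- Self-normalizing Sylow subgroups: all overgroups are self-normalizing. -/
theorem normalizer_of_self (hQ : ∀ P : Sylow p G, normalizer ((P : Subgroup G) : Set G) = P) (K : Subgroup G)
    (hK : Over p K) : normalizer (K : Set G) = K := by
  obtain ⟨P, hP⟩ := hK
  apply le_antisymm _ Subgroup.le_normalizer
  intro g hg
  have h1 : ((g • P : Sylow p G) : Subgroup G) = cj g (P : Subgroup G) := Sylow.coe_subgroup_smul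
  have hgK : cj g K = K := cj_eq_iff_mem.2 hg
  obtain ⟨x, hx, hx2⟩ := sylow_conj P (g • P) (W := K) hP
    (by rw [h1]; exact (cj_mono g hP).trans (le_of_eq hgK))
  rw [h1] at hx2
  have h2 : x⁻¹ * g ∈ (P : Subgroup G) := by
    rw [← hQ P, ← cj_eq_iff_mem, cj_mul, ← hx2, cj_inv_cj]
  have e : g = x * (x⁻¹ * g) := by group
  rw [e]
  exact mul_mem hx (hP h2)

/-- **The converse part for self-normalizing Sylow subgroups of the quotient.** -/
theorem mpr_self (A : Subgroup G) [A.Normal] (hA : ∀ K : Subgroup ↥A, Over p K → Cfsg.IsPronormal K)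
    (hQ : ∀ P : Sylow p (G ⧸ A), normalizer ((P : Subgroup (G ⧸ A)) : Set (G ⧸ A)) = P) (T : Subgroup G)
    (hT : ∃ P : Sylow p ↥A, (P : Subgroup ↥A).map A.subtype = T)
    [(T.subgroupOf (normalizer (T : Set G))).Normal]
    (h1 : ∀ K : Subgroup (↥(normalizer (T : Set G)) ⧸ T.subgroupOf (normalizer (T : Set G))), Over p K →
      Cfsg.IsPronormal K)
    (H : Subgroup G) (hH : Over p H) : Cfsg.IsPronormal H := by
  refine mpr A hA (isPronormal_of_self hQ) T hT h1 (fun K hK => ?_) H hH
  apply le_antisymm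
  · rintro _ ⟨n, hn, rfl⟩
    rw [← cj_eq_iff_mem, ← map_cj, cj_eq_iff_mem.2 hn]
  · rw [normalizer_of_self hQ _ (over_map (QuotientGroup.mk'_surjective A) hK)]
    exact Subgroup.map_mono Subgroup.le_normalizer

end Cfsg.Agent.H555.PronormalExt
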